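import Groth.Agent.H78.Closed.Thick
import Groth.Agent.H78.FormalFun.Triviality
import Groth.Agent.S2803
import Mathlib.RingTheory.Filtration

/-!
# A proper morphism which is an isomorphism on all thickenings is an isomorphism
-/

set_option linter.style.haveILetI false

noncomputable section

universe u

open CategoryTheory Limits AlgebraicGeometry Opposite TopologicalSpace

namespace Groth.Agent.H78.Closed.Iso

open Groth.Agent.H78.Formal.Sections

lemma isIso_residueFieldMap {T X : Scheme.{u}} (ι : T ⟶ X) [IsClosedImmersion ι] (t : T) :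
    IsIso (ι.residueFieldMap t) := by
  refine (ConcreteCategory.isIso_iff_bijective _).2 ⟨(ι.residueFieldMap t).hom.injective, fun z => ?_⟩
  obtain ⟨s, rfl⟩ := Scheme.residue_surjective T t z
  obtain ⟨r, rfl⟩ := ι.stalkMap_surjective t s
  exact ⟨X.residue (ι t) r, ConcreteCategory.congr_hom (Scheme.residue_residueFieldMap ι t) r⟩

/-- A proper morphism which is an isomorphism over a closed subscheme is a closed immersion near it. -/
theorem exists_nhd_closedImmersion {W X T : Scheme.{u}} (p : W ⟶ X) [IsProper p] (ι : T ⟶ X)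
    [IsClosedImmersion ι] (a : T ⟶ W) (h : IsPullback a (𝟙 T) p ι) (t : T) :
    ∃ U : X.Opens, ι t ∈ U ∧ IsClosedImmersion (p ∣_ U) := by
  refine (Groth.Agent.S2803.result p (ι t)).2 ⟨Or.inr ?_, ⊤, trivial, inferInstance⟩
  have h₁ := isPullback_fiberToSpecResidueField_of_isPullback h t
  haveI := isIso_residueFieldMap ι t
  haveI : IsIso (Spec.map (ι.residueFieldMap t)) := inferInstance
  haveI : IsIso ((𝟙 T : T ⟶ T).fiberToSpecResidueField t) :=
    inferInstanceAs (IsIso (pullback.snd (𝟙 T) (T.fromSpecResidueField t)))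
  have hi := h₁.isIso_fst_of_isIso
  have hc : IsIso (Scheme.Hom.fiberToSpecResidueField (𝟙 T) t ≫ Spec.map (ι.residueFieldMap t)) :=
    IsIso.comp_isIso
  exact @IsIso.of_isIso_fac_left _ _ _ _ _ _ _ _ hi hc h₁.w

/-- An open containing all closed points of a compact scheme is the whole scheme. -/
lemma eq_top_of_closed_points {X : Scheme.{u}} [CompactSpace X] (U : X.Opens)
    (h : ∀ x : X, IsClosed ({x} : Set X) → x ∈ U) : U = ⊤ := by
  by_contra hne
  have hS : ((U : Set X)ᶜ).Nonempty :=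
    Set.nonempty_compl.2 fun e => hne (Opens.ext (e.trans Opens.coe_top.symm))
  obtain ⟨x, hx, hxc⟩ := U.2.isClosed_compl.exists_closed_singleton hS
  exact hx (h x hxc)

variable {A : Type u} [CommRing A] {X : Scheme.{u}} (f : X ⟶ Spec (CommRingCat.of A)) (I : Ideal A)

lemma range_thickι_zero (x : X) : x ∈ Set.range (CohB1.thickι f I 0) ↔ I ≤ (f x).asIdeal := by
  refine (iff_of_eq (congrArg (x ∈ ·) (Scheme.Pullback.range_fst (f := f) (g := CohB1.specQuot I 0)))).trans ?_
  rw [Set.mem_preimage]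
  have e : Set.range (CohB1.specQuot I 0) = PrimeSpectrum.zeroLocus (I : Set A) := by
    refine (range_comap_of_surjective _ (Ideal.Quotient.mk (I ^ (0 + 1))) Ideal.Quotient.mk_surjective).trans ?_
    rw [Ideal.mk_ker, zero_add, pow_one]
  rw [e]
  exact Iff.rfl

variable [IsNoetherianRing A] [IsAdicComplete I A] [IsProper f]

omit [IsNoetherianRing A] in
lemma le_asIdeal_of_isClosed {x : X} (hx : IsClosed ({x} : Set X)) : I ≤ (f x).asIdeal := by
  have h1 : IsClosed ({f x} : Set (Spec (CommRingCat.of A))) := by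
    simpa using f.isClosedMap _ hx
  exact (IsAdicComplete.le_jacobson_bot I).trans
    (sInf_le ⟨bot_le, (PrimeSpectrum.isClosed_singleton_iff_isMaximal _).1 h1⟩)

/-- A proper morphism which is an isomorphism over all thickenings is an isomorphism. -/
theorem isIso_of_thickenings {W : Scheme.{u}} (p : W ⟶ X) [IsProper p]
    (a : (n : ℕ) → (CohB1.thick f I n ⟶ W)) (ha : ∀ n, a n ≫ p = CohB1.thickι f I n)
    (h0 : IsPullback (a 0) (𝟙 _) p (CohB1.thickι f I 0)) : IsIso p := by
  letI : X.Over (Spec (CommRingCat.of A)) := ⟨f⟩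
  haveI : IsLocallyNoetherian X := LocallyOfFiniteType.isLocallyNoetherian f
  haveI : CompactSpace X := QuasiCompact.compactSpace_of_compactSpace f
  haveI := Thick.closed_thickι f I
  haveI : IsClosedImmersion p := by
    have h : ∀ x : X, IsClosed ({x} : Set X) → ∃ U : X.Opens, x ∈ U ∧ IsClosedImmersion (p ∣_ U) := by
      intro x hx
      obtain ⟨t, rfl⟩ := (range_thickι_zero f I x).2 (le_asIdeal_of_isClosed f I hx)
      exact exists_nhd_closedImmersion p (CohB1.thickι f I 0) (a 0) h0 t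
    refine IsZariskiLocalAtTarget.of_iSup_eq_top
      (fun U : {U : X.Opens // IsClosedImmersion (p ∣_ U)} => U.1) ?_ fun U => U.2
    refine eq_top_of_closed_points _ fun x hx => ?_
    obtain ⟨U, hxU, hU⟩ := h x hx
    exact Opens.mem_iSup.2 ⟨⟨U, hU⟩, hxU⟩
  refine IsClosedImmersion.isIso_iff_ker_eq_bot.2 ?_
  have hker : ∀ (U : X.affineOpens), ∀ c ∈ p.ker.ideal U, ∀ n, c ∈ sIdeal I U.1 ^ (n + 1) := by
    intro U c hc n
    rw [Scheme.Hom.ker_apply, RingHom.mem_ker] at hc
    refine (Thick.thickι_app_eq_zero_iff f I n U.2 c).1 ?_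
    rw [← ha n]
    exact Thick.comp_app_eq_zero _ _ hc
  refine le_bot_iff.1 (Scheme.IdealSheafData.le_of_iSup_eq_top
    (fun V : {V : X.affineOpens // p.ker.ideal V = ⊥} => V.1) (eq_top_of_closed_points _ fun x hx => ?_)
    fun V => V.2.le)
  obtain ⟨U, hU, hxU, -⟩ := exists_isAffineOpen_mem_and_subset (show x ∈ (⊤ : X.Opens) from trivial)
  haveI : IsNoetherianRing Γ(X, U) := IsLocallyNoetherian.component_noetherian ⟨U, hU⟩
  set J := sIdeal I U
  have hJ : (p.ker.ideal ⟨U, hU⟩ : Submodule Γ(X, U) Γ(X, U)) ≤ J • p.ker.ideal ⟨U, hU⟩ := by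
    intro c hc
    have hmem : c ∈ (⨅ i : ℕ, J ^ i • ⊤ : Submodule Γ(X, U) Γ(X, U)) := by
      refine Submodule.mem_iInf _ |>.2 fun i => ?_
      rw [smul_eq_mul, Ideal.mul_top]
      exact Ideal.pow_le_pow_right (Nat.le_succ i) (hker ⟨U, hU⟩ c hc i)
    obtain ⟨r, hr⟩ := (J.mem_iInf_smul_pow_eq_bot_iff c).1 hmem
    rw [← hr]
    exact Submodule.smul_mem_smul r.2 hc
  obtain ⟨r, hr1, hr⟩ := Submodule.exists_sub_one_mem_and_smul_eq_zero_of_fg_of_le_smul J _
    (IsNoetherian.noetherian _) hJ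
  have hxr : x ∈ X.basicOpen r := by
    rw [FormalFun.Triviality.mem_basicOpen_iff hU hxU]
    intro hmem
    refine (hU.primeIdealOf ⟨x, hxU⟩).isPrime.ne_top ((Ideal.eq_top_iff_one _).2 ?_)
    have h4 := sub_mem hmem (FormalFun.Triviality.mem_prime_of_mem hU hxU (le_asIdeal_of_isClosed f I hx) hr1)
    rwa [sub_sub_cancel] at h4
  refine Opens.mem_iSup.2 ⟨⟨X.affineBasicOpen (U := ⟨U, hU⟩) r, ?_⟩, hxr⟩
  rw [← p.ker.map_ideal_basicOpen ⟨U, hU⟩ r]
  refine (Ideal.map_eq_bot_iff_le_ker _).2 ?_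
  intro c hc
  rw [RingHom.mem_ker]
  have h1 : IsUnit (X.presheaf.map (homOfLE (X.basicOpen_le r)).op r) :=
    RingedSpace.isUnit_res_basicOpen (X := X.toLocallyRingedSpace.toRingedSpace) r
  refine h1.mul_right_eq_zero.1 ?_
  refine (map_mul (X.presheaf.map (homOfLE (X.basicOpen_le r)).op).hom r c).symm.trans ?_
  rw [show r * c = 0 from hr c hc, map_zero]

end Groth.Agent.H78.Closed.Iso
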