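import Groth.Agent.H78.Closed.Iso

/-!
# Algebraization of compatible systems of morphisms on the thickenings
-/

set_option linter.style.haveILetI false

noncomputable section

universe u

open CategoryTheory Limits AlgebraicGeometry

namespace Groth.Agent.H78.Closed.Morphism

variable {A : Type u} [CommRing A] {I : Ideal A} {X Y : Scheme.{u}} {f : X ⟶ Spec (CommRingCat.of A)}
  {h : Y ⟶ Spec (CommRingCat.of A)}

lemma thick_condition (n : ℕ) :
    CohB1.thickι f I n ≫ f = CohB1.thickToBase f I n ≫ CohB1.specQuot I n :=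
  pullback.condition

/-- Maps into a thickening. -/
def liftThick {T : Scheme.{u}} {n : ℕ} (a : T ⟶ X) (b : T ⟶ Spec (CommRingCat.of (A ⧸ I ^ (n + 1))))
    (e : a ≫ f = b ≫ CohB1.specQuot I n) : T ⟶ CohB1.thick f I n :=
  pullback.lift a b e

lemma liftThick_ι {T : Scheme.{u}} {n : ℕ} (a : T ⟶ X) (b : T ⟶ Spec (CommRingCat.of (A ⧸ I ^ (n + 1))))
    (e : a ≫ f = b ≫ CohB1.specQuot I n) : liftThick a b e ≫ CohB1.thickι f I n = a :=
  pullback.lift_fst _ _ _

lemma liftThick_base {T : Scheme.{u}} {n : ℕ} (a : T ⟶ X) (b : T ⟶ Spec (CommRingCat.of (A ⧸ I ^ (n + 1))))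
    (e : a ≫ f = b ≫ CohB1.specQuot I n) : liftThick a b e ≫ CohB1.thickToBase f I n = b :=
  pullback.lift_snd _ _ _

/-- A compatible system of morphisms of thickenings out of a proper scheme is induced by a morphism. -/
theorem exists_morphism [IsNoetherianRing A] [IsAdicComplete I A] [IsProper f] [IsSeparated h]
    [LocallyOfFiniteType h] [QuasiCompact h]
    (g : (n : ℕ) → (CohB1.thick f I n ⟶ CohB1.thick h I n))
    (hg₁ : ∀ n, g n ≫ CohB1.thickToBase h I n = CohB1.thickToBase f I n)
    (hg₂ : ∀ n, CohB1.thickTrans f I n ≫ g (n + 1) = g n ≫ CohB1.thickTrans h I n) :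
    ∃ φ : X ⟶ Y, φ ≫ h = f ∧ ∀ n, CohB1.thickι f I n ≫ φ = g n ≫ CohB1.thickι h I n := by
  let f' : pullback f h ⟶ Spec (CommRingCat.of A) := pullback.fst f h ≫ f
  haveI : IsSeparated f' := inferInstanceAs (IsSeparated (pullback.fst f h ≫ f))
  haveI : LocallyOfFiniteType f' := inferInstanceAs (LocallyOfFiniteType (pullback.fst f h ≫ f))
  haveI : QuasiCompact f' := inferInstanceAs (QuasiCompact (pullback.fst f h ≫ f))
  have hγ : ∀ n, CohB1.thickι f I n ≫ f = (g n ≫ CohB1.thickι h I n) ≫ h := fun n => by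
    rw [Category.assoc, thick_condition, thick_condition, ← hg₁, Category.assoc]
  let γ : (n : ℕ) → (CohB1.thick f I n ⟶ pullback f h) := fun n => pullback.lift _ _ (hγ n)
  have hγf : ∀ n, γ n ≫ pullback.fst f h = CohB1.thickι f I n := fun n => pullback.lift_fst _ _ _
  have hγs : ∀ n, γ n ≫ pullback.snd f h = g n ≫ CohB1.thickι h I n := fun n => pullback.lift_snd _ _ _
  have hcond : ∀ n, γ n ≫ f' = CohB1.thickToBase f I n ≫ CohB1.specQuot I n := fun n => by
    change γ n ≫ pullback.fst f h ≫ f = _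
    rw [← Category.assoc, hγf, thick_condition]
  let z : (n : ℕ) → (CohB1.thick f I n ⟶ CohB1.thick f' I n) := fun n =>
    liftThick (γ n) (CohB1.thickToBase f I n) (hcond n)
  have hzι : ∀ n, z n ≫ CohB1.thickι f' I n = γ n := fun n => liftThick_ι _ _ _
  have hzb : ∀ n, z n ≫ CohB1.thickToBase f' I n = CohB1.thickToBase f I n := fun n => liftThick_base _ _ _
  haveI := Thick.closed_thickι f I
  haveI := Thick.closed_thickι f' I
  haveI := Thick.closed_thickι h I
  have hz : ∀ n, IsClosedImmersion (z n) := fun n => by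
    haveI : IsClosedImmersion (γ n ≫ pullback.fst f h) := by rw [hγf]; infer_instance
    haveI : IsClosedImmersion (γ n) := IsClosedImmersion.of_comp (γ n) (pullback.fst f h)
    haveI : IsClosedImmersion (z n ≫ CohB1.thickι f' I n) := by rw [hzι]; infer_instance
    exact IsClosedImmersion.of_comp_isClosedImmersion _ (CohB1.thickι f' I n)
  have hγt : ∀ n, CohB1.thickTrans f I n ≫ γ (n + 1) = γ n := fun n => by
    apply pullback.hom_ext
    · rw [Category.assoc, hγf, hγf, Thick.thickTrans_ι]
    · rw [Category.assoc, hγs, hγs, ← Category.assoc, hg₂, Category.assoc, Thick.thickTrans_ι]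
  have hw : ∀ n, CohB1.thickTrans f I n ≫ z (n + 1) = z n ≫ CohB1.thickTrans f' I n := fun n => by
    rw [← cancel_mono (CohB1.thickι f' I (n + 1)), Category.assoc, hzι, hγt, Category.assoc,
      Thick.thickTrans_ι, hzι]
  have hs : ∀ n, CohB1.thickι f' I n ≫ pullback.fst f h ≫ f =
      CohB1.thickToBase f' I n ≫ CohB1.specQuot I n := fun n => thick_condition (f := f') n
  have ht : ∀ n, IsPullback (CohB1.thickTrans f I n) (z n) (z (n + 1)) (CohB1.thickTrans f' I n) := fun n => by
    let c : (s : PullbackCone (z (n + 1)) (CohB1.thickTrans f' I n)) → (s.pt ⟶ CohB1.thick f I n) := fun s =>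
      liftThick (s.snd ≫ CohB1.thickι f' I n ≫ pullback.fst f h) (s.snd ≫ CohB1.thickToBase f' I n)
        (by rw [Category.assoc, Category.assoc, hs, Category.assoc])
    have hc : ∀ s, c s ≫ CohB1.thickTrans f I n = s.fst := fun s => by
      rw [← cancel_mono (CohB1.thickι f I (n + 1)), Category.assoc, Thick.thickTrans_ι]
      refine (liftThick_ι _ _ _).trans ?_
      rw [← hγf (n + 1), ← hzι (n + 1), Category.assoc, ← Category.assoc s.fst, s.condition, Category.assoc,
        ← Category.assoc (CohB1.thickTrans f' I n), Thick.thickTrans_ι]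
    have hc' : ∀ s, c s ≫ z n = s.snd := fun s => by
      rw [← cancel_mono (CohB1.thickι f' I n), Category.assoc, hzι, ← hγt, ← Category.assoc, hc,
        ← hzι (n + 1), ← Category.assoc, s.condition, Category.assoc, Thick.thickTrans_ι]
    refine ⟨⟨hw n⟩, ⟨PullbackCone.IsLimit.mk _ c hc hc' (fun s m _ h₂ => ?_)⟩⟩
    rw [← cancel_mono (CohB1.thickι f I n)]
    refine Eq.trans ?_ (liftThick_ι _ _ _).symm
    rw [← h₂, Category.assoc, ← Category.assoc (z n), hzι, hγf]
  have hp : IsProper (z 0 ≫ CohB1.thickToBase f' I 0) := by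
    rw [hzb]
    exact inferInstanceAs (IsProper (pullback.snd f (CohB1.specQuot I 0)))
  obtain ⟨W, i, w, hi, hWp, -, hpb⟩ := Thick.exists_subscheme f' I z _ hz ht hp
  haveI := hi
  let p : W ⟶ X := i ≫ pullback.fst f h
  haveI : IsProper (p ≫ f) := by
    change IsProper ((i ≫ pullback.fst f h) ≫ f)
    rw [Category.assoc]
    exact hWp
  haveI : IsProper p := IsProper.of_comp p f
  have hwi : ∀ n, w n ≫ i = γ n := fun n => (hpb n).w.trans (hzι n)
  have hwp : ∀ n, w n ≫ p = CohB1.thickι f I n := fun n => by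
    change w n ≫ i ≫ pullback.fst f h = _
    rw [← Category.assoc, hwi, hγf]
  have h0 : IsPullback (w 0) (𝟙 _) p (CohB1.thickι f I 0) := by
    refine ⟨⟨(hwp 0).trans (Category.id_comp _).symm⟩, ⟨PullbackCone.IsLimit.mk _ (fun s => s.snd)
      (fun s => ?_) (fun s => Category.comp_id _) (fun s m _ h₂ => ?_)⟩⟩
    · have hb : (s.fst ≫ i) ≫ f' = (s.snd ≫ CohB1.thickToBase f I 0) ≫ CohB1.specQuot I 0 := by
        refine Eq.trans ?_ ((congrArg (· ≫ f) s.condition).trans ((Category.assoc _ _ _).trans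
          ((congrArg (s.snd ≫ ·) (thick_condition 0)).trans (Category.assoc _ _ _).symm)))
        simp only [f', p, Category.assoc]
      let b' : s.pt ⟶ CohB1.thick f' I 0 := liftThick (s.fst ≫ i) (s.snd ≫ CohB1.thickToBase f I 0) hb
      have hb' : b' ≫ CohB1.thickι f' I 0 = s.fst ≫ i := liftThick_ι _ _ _
      let c := (hpb 0).lift s.fst b' hb'.symm
      have hc : c = s.snd := by
        refine (cancel_mono (CohB1.thickι f I 0)).1 ?_
        refine Eq.trans (congrArg (c ≫ ·) (hwp 0).symm) ?_
        rw [← Category.assoc]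
        exact (congrArg (· ≫ p) (IsPullback.lift_fst _ _ _ _)).trans s.condition
      rw [← hc]
      exact IsPullback.lift_fst _ _ _ _
    · rw [← h₂]
      exact (Category.comp_id _).symm
  haveI := Iso.isIso_of_thickenings f I p w hwp h0
  refine ⟨inv p ≫ i ≫ pullback.snd f h, ?_, fun n => ?_⟩
  · rw [Category.assoc, Category.assoc, ← pullback.condition]
    simp [p]
  · have h1 : CohB1.thickι f I n ≫ inv p = w n := by rw [← hwp n, Category.assoc, IsIso.hom_inv_id, Category.comp_id]
    rw [← Category.assoc, h1, ← Category.assoc, hwi, hγs]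

end Groth.Agent.H78.Closed.Morphism
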